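import Cfsg.Agent.Lib.Chev.PoincareF4
import Cfsg.Agent.Lib.Chev.RootOrbit

/-!
In characteristic two the 2-elements of `F₄(q)` have order at most 32: they are conjugate into `U`, whose
elements raise the height of an adjoint weight, which lies between `-11` and `11`.
-/

set_option autoImplicit false

namespace Cfsg.Agent.Lib.ReeF4

open Cfsg.Lie Cfsg.Agent.Lib.Chev
open scoped Matrix

variable {F : Type*} [Field F]

/-- The height of an adjoint weight of `F₄`. -/
def htLev : chevF4.Idx → ℤ := wgt chevF4 (ht chevF4 F4.cert)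

theorem ht_range_check : ((List.range 48).all fun r =>
    decide (-11 ≤ ht chevF4 F4.cert r ∧ ht chevF4 F4.cert r ≤ 11)) = true := by decide +kernel

theorem htLev_range (x : chevF4.Idx) : -11 ≤ htLev x ∧ htLev x ≤ 11 := by
  rcases x with i | a
  · simp [htLev, wgt]
  · have h := List.all_eq_true.mp ht_range_check a.val (List.mem_range.mpr a.isLt)
    simpa [htLev, wgt] using h

theorem raises_x_height {r : ℕ} (hr : r ∈ posSet chevF4) (t : F) :
    Raises htLev 1 (chevF4.x F r t - 1) := by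
  intro y x hne
  by_cases hyx : y = x
  · exfalso
    apply hne
    subst hyx
    rw [Matrix.sub_apply, Matrix.one_apply_eq, checked_F4.x_diag hr.2 t y, sub_self]
  rw [Matrix.sub_apply, Matrix.one_apply_ne hyx, sub_zero] at hne
  rcases checked_F4.x_entry hr.2 t hne with e | ⟨k, hk, hφ⟩
  · exact absurd e hyx
  have e := hφ _ checked_F4.isAdd_ht
  have h1 := checked_F4.ht_pos hr.2 hr.1
  have h2 : (1 : ℤ) ≤ (k : ℤ) * ht chevF4 F4.cert r :=
    one_le_mul_of_one_le_of_one_le (by exact_mod_cast hk) h1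
  show htLev x + 1 ≤ htLev y
  simp only [htLev] at *
  omega

theorem posUnipotent_pow_32 [CharP F 2] {g : GL chevF4.Idx F} (hg : g ∈ chevF4.posUnipotent F) :
    g ^ 32 = 1 := by
  have hR : Raises htLev 1 ((g : Matrix chevF4.Idx chevF4.Idx F) - 1) := by
    rw [checked_F4.posUnipotent_eq] at hg
    refine (raises_of_mem_closure (by norm_num) ?_ hg).1
    rintro a ⟨r, t, hr, e⟩
    rw [checked_F4.rootGen_inv_mem (S := posSet chevF4) (fun a ha => ha.2) hr e, e]
    exact ⟨raises_x_height hr t, raises_x_height hr (-t)⟩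
  have h0 : ((g : Matrix chevF4.Idx chevF4.Idx F) - 1) ^ 32 = 0 := by
    refine (hR.pow 32).eq_zero fun x y => ?_
    have := htLev_range x
    have := htLev_range y
    push_cast
    omega
  haveI : Fact (Nat.Prime 2) := ⟨Nat.prime_two⟩
  haveI : Nonempty chevF4.Idx := ⟨Sum.inr ⟨0, by decide⟩⟩
  rw [show (32 : ℕ) = 2 ^ 5 from rfl, sub_pow_char_pow_of_commute _ _ (Commute.one_right _), one_pow,
    sub_eq_zero] at h0
  exact Units.ext (by rw [Units.val_pow_eq_pow_val]; exact h0)

theorem two_element_pow_32 [Fintype F] [CharP F 2] {k : ℕ} (hF : Fintype.card F = 2 ^ k)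
    {g : GL chevF4.Idx F} (hg : g ∈ chevF4.group F) (hord : ∃ j : ℕ, orderOf g = 2 ^ j) : g ^ 32 = 1 := by
  classical
  haveI : Fact (Nat.Prime 2) := ⟨Nat.prime_two⟩
  have hcard : Nat.card ↥(chevF4.group F) = 2 ^ (k * 24) *
      ((2 ^ k) ^ 2 - 1) * ((2 ^ k) ^ 6 - 1) * ((2 ^ k) ^ 8 - 1) * ((2 ^ k) ^ 12 - 1) := by
    have h := (Rooted.mk checked_F4 descent_F4).card_group_mul (F := F) F4.smith_ok F4.chain_ok F4.poly_ok
    have hd : (∏ i : Fin chevF4.rank, (2 ^ k - 1).gcd (([1, 1, 1, 1] : List ℕ).getD i.val 0)) = 1 := by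
      show (∏ i : Fin 4, _) = _
      simp [Fin.prod_univ_succ, Nat.gcd_comm]
    rw [hF, hd, show chevF4.nroots / 2 = 24 from rfl, ← pow_mul] at h
    simpa [F4.degs, mul_assoc] using h
  have hU : Nat.card ↥((chevF4.posUnipotent F).subgroupOf (chevF4.group F)) = 2 ^ (k * 24) := by
    rw [Nat.card_congr (Subgroup.subgroupOfEquivOfLe checked_F4.posUnipotent_le_group).toEquiv,
      (Rooted.mk checked_F4 descent_F4).card_posUnipotent, hF, ← pow_mul]
    rfl
  have hk : 1 ≤ k := by
    rcases k with _ | k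
    · have := Fintype.one_lt_card (α := F); omega
    · omega
  have hodd : ∀ e : ℕ, 1 ≤ e → ¬ 2 ∣ (2 ^ k) ^ e - 1 := fun e he => by
    have h2 : 2 ∣ (2 ^ k) ^ e := by
      rw [← pow_mul]; exact dvd_pow_self 2 (Nat.mul_ne_zero (by omega) (by omega))
    have h1 : 1 ≤ (2 ^ k) ^ e := Nat.one_le_pow _ _ (Nat.two_pow_pos k)
    omega
  have hidx : ¬ 2 ∣ ((chevF4.posUnipotent F).subgroupOf (chevF4.group F)).index := by
    have h := ((chevF4.posUnipotent F).subgroupOf (chevF4.group F)).card_mul_index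
    rw [hU, hcard, mul_assoc, mul_assoc, mul_assoc, Nat.mul_left_cancel_iff (Nat.two_pow_pos _)] at h
    rw [h]
    intro hd
    rcases (Nat.prime_two.dvd_mul).mp hd with hd | hd
    · exact hodd 2 (by norm_num) hd
    rcases (Nat.prime_two.dvd_mul).mp hd with hd | hd
    · exact hodd 6 (by norm_num) hd
    rcases (Nat.prime_two.dvd_mul).mp hd with hd | hd
    · exact hodd 8 (by norm_num) hd
    · exact hodd 12 (by norm_num) hd
  let S : Sylow 2 ↥(chevF4.group F) := (IsPGroup.of_card hU).toSylow hidx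
  obtain ⟨j, hj⟩ := hord
  have hz : IsPGroup 2 (Subgroup.zpowers (⟨g, hg⟩ : ↥(chevF4.group F))) :=
    IsPGroup.of_card (n := j) (by rw [Nat.card_zpowers, Subgroup.orderOf_mk, hj])
  obtain ⟨T, hT⟩ := hz.exists_le_sylow
  obtain ⟨c, hc⟩ := MulAction.exists_smul_eq ↥(chevF4.group F) T S
  have hmem : MulAut.conj c (⟨g, hg⟩ : ↥(chevF4.group F)) ∈ (S : Subgroup ↥(chevF4.group F)) := by
    rw [← hc, Sylow.coe_subgroup_smul]
    exact Subgroup.smul_mem_pointwise_smul _ _ _ (hT (Subgroup.mem_zpowers _))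
  have h32 := posUnipotent_pow_32 (g := (c : GL chevF4.Idx F) * g * (c : GL chevF4.Idx F)⁻¹) hmem
  rw [conj_pow, mul_inv_eq_one, mul_eq_left] at h32
  exact h32

theorem genSubgroup_le_group (S : Set (List (ℕ × F))) : chevF4.genSubgroup F S ≤ chevF4.group F := by
  have hword : ∀ w : List (ℕ × F), ∃ g ∈ chevF4.group F,
      (g : Matrix chevF4.Idx chevF4.Idx F) = chevF4.wordMat F w := by
    intro w
    induction w with
    | nil => exact ⟨1, one_mem _, by simp [ChevalleyDatum.wordMat]⟩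
    | cons a w ih =>
      obtain ⟨g, hg, he⟩ := ih
      by_cases hr : a.1 < chevF4.nroots
      · refine ⟨xGL checked_F4 F hr a.2 * g,
          mul_mem (Subgroup.subset_closure ⟨⟨a.1, hr⟩, a.2, ?_⟩) hg, ?_⟩
        · rw [coe_xGL checked_F4, ChevalleyDatum.x, dif_pos hr]
        · rw [Units.val_mul, coe_xGL checked_F4, he]
          simp [ChevalleyDatum.wordMat]
      · refine ⟨g, hg, ?_⟩
        rw [he]
        simp [ChevalleyDatum.wordMat, ChevalleyDatum.x, hr]
  rw [ChevalleyDatum.genSubgroup, Subgroup.closure_le]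
  rintro g ⟨w, -, hw⟩
  obtain ⟨g', hg', he⟩ := hword w
  rwa [Units.ext (hw.trans he.symm)]

end Cfsg.Agent.Lib.ReeF4
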