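import Cfsg.Agent.Lib.Chev.BorelTits
import Cfsg.Agent.Lib.Chev.Levi
import Cfsg.Agent.Lib.Chev.UnipotentCount
import Cfsg.Agent.Lib.Chev.TorusCard
import Cfsg.Agent.Lib.Chev.PoincareF4
import Cfsg.Agent.Lib.Twisted.Ree.F4Group
import Cfsg.Agent.Lib.PSolvable.Core

/-!
The centralizers of involutions of the large Ree groups.  For a non-trivial 2-subgroup of `F₄(q)` stable
under the exceptional endomorphism, a maximal stable overgroup with a larger normalizer is the radical of a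
parabolic subgroup, whose type is then stable under the symmetry of the diagram.
-/

set_option autoImplicit false
set_option maxHeartbeats 1000000

namespace Cfsg.Agent.Lib.ReeF4

open Cfsg.Lie Cfsg.Agent.Lib.Chev Cfsg.Agent.Lib.Twisted

variable {K : Type*} [Field K]

/-- A parabolic subgroup inside `F₄(q)`. -/
abbrev parG (K : Type*) [Field K] (J : Finset ℕ) : Subgroup ↥(chevF4.group K) :=
  (chevF4.parabolicSubgroup K (J : Set ℕ)).subgroupOf (chevF4.group K)

/-- The radical of a parabolic subgroup inside `F₄(q)`. -/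
abbrev radG (K : Type*) [Field K] (J : Finset ℕ) : Subgroup ↥(chevF4.group K) :=
  (rootGen chevF4 K (outSet chevF4 F4.cert J)).subgroupOf (chevF4.group K)

theorem rad_le_group (J : Finset ℕ) : rootGen chevF4 K (outSet chevF4 F4.cert J) ≤ chevF4.group K :=
  (ReeF.rooted_F4.outSet_rootGen_le).trans checked_F4.posUnipotent_le_group

theorem normalizer_radG [Finite K] {J : Finset ℕ} (hJ : J ⊆ Finset.range chevF4.rank) :
    Subgroup.normalizer (radG K J : Set ↥(chevF4.group K)) = parG K J := by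
  ext x
  rw [Subgroup.mem_normalizer_iff, Subgroup.mem_subgroupOf, ← ReeF.rooted_F4.normalizer_radical hJ, Subgroup.mem_inf,
    Subgroup.mem_normalizer_iff]
  constructor
  · intro h
    refine ⟨fun a => ⟨fun ha => ?_, fun ha => ?_⟩, x.2⟩
    · have := (h ⟨a, rad_le_group J ha⟩).1 ha
      exact this
    · have haG : a ∈ chevF4.group K := by
        have := mul_mem (mul_mem (inv_mem x.2) (rad_le_group J ha)) x.2
        simpa [mul_assoc] using this
      exact (h ⟨a, haG⟩).2 ha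
  · rintro ⟨h, -⟩ a
    exact h a

theorem exists_parabolic [Fintype K] [CharP K 2] (U : Subgroup ↥(chevF4.group K)) (hU : IsPGroup 2 ↥U) (hne : U ≠ ⊥) :
    ∃ g : ↥(chevF4.group K), ∃ J : Finset ℕ, J ⊆ Finset.range chevF4.rank ∧ J ≠ Finset.range chevF4.rank ∧
      (∀ y ∈ Subgroup.normalizer (U : Set ↥(chevF4.group K)), g⁻¹ * y * g ∈ parG K J) ∧ ∀ u ∈ U, g⁻¹ * u * g ∈ radG K J := by
  haveI : Fact (Nat.Prime 2) := ⟨Nat.prime_two⟩
  set U' := U.map (chevF4.group K).subtype with hU'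
  obtain ⟨g, hg, J, hJ, ⟨i, hi, hiJ⟩, hN, hR⟩ := ReeF.rooted_F4.borel_tits 2 U'
    (Subgroup.map_subtype_le _) (hU.map _)
    (fun h => hne ((Subgroup.map_eq_bot_iff_of_injective _ (chevF4.group K).subtype_injective).1 h))
  refine ⟨⟨g, hg⟩, J, hJ, fun e => hiJ (e ▸ Finset.mem_range.2 hi), fun y hy => ?_, fun u hu => ?_⟩
  · have h1 : (y : GL chevF4.Idx K) ∈ Subgroup.normalizer (U' : Set (GL chevF4.Idx K)) := by
      rw [Subgroup.mem_normalizer_iff]
      intro a
      constructor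
      · rintro ⟨b, hb, rfl⟩
        exact ⟨y * b * y⁻¹, (Subgroup.mem_normalizer_iff.1 hy b).1 hb, rfl⟩
      · rintro ⟨b, hb, e⟩
        refine ⟨y⁻¹ * b * y, ?_, ?_⟩
        · refine (Subgroup.mem_normalizer_iff.1 hy _).2 ?_
          simpa [mul_assoc] using hb
        · have e' : (b : GL chevF4.Idx K) = y * a * (y : GL chevF4.Idx K)⁻¹ := e
          simp [e', mul_assoc]
    obtain ⟨p, hp, e⟩ := hN ⟨h1, y.2⟩
    rw [Subgroup.mem_subgroupOf]
    have : g⁻¹ * (y : GL chevF4.Idx K) * g = p := by simp [← e, mul_assoc]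
    simpa [this] using hp
  · obtain ⟨p, hp, e⟩ := hR ⟨u, hu, rfl⟩
    rw [Subgroup.mem_subgroupOf]
    have e' : (u : GL chevF4.Idx K) = g * p * g⁻¹ := e.symm
    have : g⁻¹ * (u : GL chevF4.Idx K) * g = p := by simp [e', mul_assoc]
    simpa [this] using hp

theorem isPGroup_radG [Fintype K] [CharP K 2] (J : Finset ℕ) : IsPGroup 2 ↥(radG K J) := by
  haveI : Fact (Nat.Prime 2) := ⟨Nat.prime_two⟩
  obtain ⟨S, hS⟩ := ReeF.rooted_F4.exists_sylow_posUnipotent (F := K) 2
  refine S.2.to_le ?_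
  rw [hS]
  exact fun x hx => ReeF.rooted_F4.outSet_rootGen_le hx

theorem parG_eq_of_conj [Fintype K] [CharP K 2] {J J' : Finset ℕ} (hJ : J ⊆ Finset.range chevF4.rank)
    (hJ' : J' ⊆ Finset.range chevF4.rank) {k : ↥(chevF4.group K)}
    (h : ∀ x : ↥(chevF4.group K), x ∈ parG K J' ↔ k * x * k⁻¹ ∈ parG K J) : J = J' := by
  haveI : Fact (Nat.Prime 2) := ⟨Nat.prime_two⟩
  classical
  obtain ⟨S, hS⟩ := ReeF.rooted_F4.exists_sylow_posUnipotent (F := K) 2
  have hUB : ∀ I : Finset ℕ, (S : Subgroup ↥(chevF4.group K)) ≤ parG K I := fun I x hx => by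
    rw [hS] at hx
    exact Subgroup.mem_sup_left (Subgroup.mem_sup_left hx)
  have hkS : ((k • S : Sylow 2 ↥(chevF4.group K)) : Subgroup ↥(chevF4.group K)) ≤ parG K J := by
    rw [Sylow.coe_subgroup_smul]
    rintro _ ⟨x, hx, rfl⟩
    exact (h x).1 (hUB J' hx)
  obtain ⟨p, hp⟩ := MulAction.exists_smul_eq ↥(parG K J) ((k • S).subtype hkS) (S.subtype (hUB J))
  have hp' : ((p : ↥(chevF4.group K)) * k) • S = S := by
    rw [Sylow.smul_subtype] at hp
    rw [mul_smul]
    exact Sylow.subtype_injective hp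
  have hnorm : (p : ↥(chevF4.group K)) * k ∈ Subgroup.normalizer (radG K ∅ : Set ↥(chevF4.group K)) := by
    have e0 : radG K ∅ = (S : Subgroup ↥(chevF4.group K)) := by
      rw [hS, checked_F4.posUnipotent_eq]
      refine congrArg (fun A => (rootGen chevF4 K A).subgroupOf (chevF4.group K)) (Set.ext fun r => ?_)
      refine ⟨fun hr => hr.1, fun hr => ⟨hr, fun hs => ?_⟩⟩
      obtain ⟨l, hlp⟩ := (by decide +kernel : ∀ r : Fin 48, 24 ≤ r.val →
        ∃ l : Fin 4, coef chevF4 F4.cert l.val r.val ≠ 0) ⟨r, hr.2⟩ hr.1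
      exact hlp (hs l.val l.2 (Finset.notMem_empty _))
    rw [e0]
    exact Sylow.smul_eq_iff_mem_normalizer.1 hp'
  rw [normalizer_radG (Finset.empty_subset _)] at hnorm
  have hk : k ∈ parG K J := by
    have h0 : (p : ↥(chevF4.group K)) * k ∈ parG K J := by
      refine Subgroup.mem_subgroupOf.2 ?_
      exact parabolic_mono (Finset.empty_subset J) (Subgroup.mem_subgroupOf.1 hnorm)
    simpa using mul_mem (inv_mem p.2) h0
  have e : parG K J' = parG K J := by
    ext x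
    rw [h x]
    exact ⟨fun hx => by simpa [mul_assoc] using mul_mem (mul_mem (inv_mem hk) hx) hk,
      fun hx => mul_mem (mul_mem hk hx) (inv_mem hk)⟩
  have key : ∀ A B : Finset ℕ, A ⊆ Finset.range chevF4.rank → B ⊆ Finset.range chevF4.rank →
      parG K A = parG K B → A ⊆ B := by
    intro A B hA hB eAB i hi
    by_contra hiB
    have hir := Finset.mem_range.1 (hA hi)
    have h1 : nS checked_F4 K i ∈ chevF4.parabolicSubgroup K (A : Set ℕ) := ReeF.rooted_F4.nS_mem_parabolic hi hir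
    have h2 : (⟨_, ReeF.rooted_F4.parabolic_le_group A h1⟩ : ↥(chevF4.group K)) ∈ parG K B := eAB ▸ Subgroup.mem_subgroupOf.2 h1
    rw [Subgroup.mem_subgroupOf, ← ReeF.rooted_F4.normalizer_radical hB] at h2
    exact ReeF.rooted_F4.not_mem_rootGen_out hir hiB h2.1
  exact Finset.Subset.antisymm (key J J' hJ hJ' e.symm) (key J' J hJ' hJ e)

theorem root_outSet : ∀ J ∈ (Finset.range 4).powerset, ∀ r : Fin 48,
    (24 ≤ r.val ∧ ¬ ∀ l : Fin 4, l.val ∉ J → coef chevF4 F4.cert l.val r.val = 0) →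
      f4Iso.root r.val < 48 ∧ 24 ≤ f4Iso.root r.val ∧
        ¬ ∀ l : Fin 4, l.val ∉ J.image (3 - ·) → coef chevF4 F4.cert l.val (f4Iso.root r.val) = 0 := by
  decide +kernel

theorem stable_types : ∀ J ∈ (Finset.range 4).powerset, J.image (3 - ·) = J → J ≠ Finset.range 4 →
    J = ∅ ∨ J = {0, 3} ∨ J = {1, 2} := by
  decide +kernel

theorem image_node : ∀ J ∈ (Finset.range 4).powerset,
    (J.image (3 - ·)).image (3 - ·) = J := by
  decide +kernel

variable {m : ℕ} {σ : ↥(chevF4.group K) →* ↥(chevF4.group K)}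

theorem sigma_bijective [Fintype K] [CharP K 2] (hσ : ReeF.IsReeSigma (2 ^ m) σ) : Function.Bijective σ := by
  haveI : Fact (Nat.Prime 2) := ⟨Nat.prime_two⟩
  haveI : Finite ↥(chevF4.group K) := inferInstance
  refine Finite.surjective_iff_bijective.1 fun y => ?_
  have hroot : ∀ r : Fin 48, ∃ s : Fin 48, f4Iso.root s.val = r.val ∧ (f4Iso.expo s.val = 1 ∨ f4Iso.expo s.val = 2) := by
    decide +kernel
  suffices h : chevF4.group K ≤ σ.range.map (chevF4.group K).subtype by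
    obtain ⟨z, ⟨x, hx⟩, e⟩ := h y.2
    exact ⟨x, hx.trans (Subtype.ext e)⟩
  refine (Subgroup.closure_le _).2 ?_
  rintro z ⟨r, t, e⟩
  obtain ⟨s, hs, he⟩ := hroot r
  obtain ⟨k, hk⟩ : ∃ k : ℕ, ReeF.lam (2 ^ m) s.val = 2 ^ k := by
    rcases he with he | he
    · exact ⟨m, by rw [ReeF.lam, he, mul_one]⟩
    · exact ⟨m + 1, by rw [ReeF.lam, he, pow_succ]⟩
  obtain ⟨u, hu⟩ := (iterateFrobeniusEquiv K 2 k).surjective t
  refine ⟨xG checked_F4 r.val t, ⟨xG checked_F4 s.val u, ?_⟩, Units.ext ?_⟩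
  · rw [hσ.map_x _ s.2, hs, hk]
    exact congrArg _ (by rw [← hu, iterateFrobeniusEquiv_def])
  · rw [Subgroup.coe_subtype, coe_xG, e, ChevalleyDatum.x, dif_pos r.2]

theorem map_radG (hσ : ReeF.IsReeSigma (2 ^ m) σ) {J : Finset ℕ} (hJ : J ⊆ Finset.range chevF4.rank)
    {x : ↥(chevF4.group K)} (hx : x ∈ radG K J) : σ x ∈ radG K (J.image (3 - ·)) := by
  have hle : rootGen chevF4 K (outSet chevF4 F4.cert J) ≤
      ((radG K (J.image (3 - ·))).comap σ).map (chevF4.group K).subtype := by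
    refine (Subgroup.closure_le _).2 ?_
    rintro g ⟨r, t, hr, e⟩
    refine ⟨xG checked_F4 r t, ?_, Units.ext (by rw [Subgroup.coe_subtype, coe_xG, e])⟩
    rw [SetLike.mem_coe, Subgroup.mem_comap, hσ.map_x _ hr.1.2, Subgroup.mem_subgroupOf]
    refine mem_rootGen ?_ (coe_xG _ _ _)
    obtain ⟨h1, h2, h3⟩ := root_outSet J (Finset.mem_powerset.2 hJ) ⟨r, hr.1.2⟩
      ⟨hr.1.1, fun h => hr.2 fun l hl hlJ => h ⟨l, hl⟩ hlJ⟩
    exact ⟨⟨h2, h1⟩, fun h => h3 fun l hl => h l.val l.2 hl⟩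
  obtain ⟨z, hz, e⟩ := hle (Subgroup.mem_subgroupOf.1 hx)
  rw [← Subtype.ext e]
  exact hz

/-- An element of a stable subgroup of `F₄(q)` with a non-trivial 2-core lies in a stable parabolic subgroup. -/
theorem exists_stable_parabolic [Fintype K] [CharP K 2] (hσ : ReeF.IsReeSigma (2 ^ m) σ) {a b : ↥(chevF4.group K)}
    (ha : orderOf a = 2) (hab : Commute a b) (hσa : σ a = a) :
    ∃ J : Finset ℕ, (J = ∅ ∨ J = {0, 3} ∨ J = {1, 2}) ∧ orderOf b ∣ Nat.card ↥(parG K J) := by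
  classical
  haveI : Fact (Nat.Prime 2) := ⟨Nat.prime_two⟩
  haveI : Finite ↥(chevF4.group K) := inferInstance
  have hbij := sigma_bijective hσ
  let Φ : ↥(chevF4.group K) ≃* ↥(chevF4.group K) := MulEquiv.ofBijective σ hbij
  have hΦ : ∀ x, Φ x = σ x := fun _ => rfl
  let T : Set (Subgroup ↥(chevF4.group K)) := {U | IsPGroup 2 ↥U ∧ a ∈ U ∧ U.map Φ.toMonoidHom = U ∧ b ∈ Subgroup.normalizer (U : Set ↥(chevF4.group K))}
  have hTne : T.Nonempty := by
    refine ⟨Subgroup.zpowers a, IsPGroup.of_card (n := 1) (by rw [Nat.card_zpowers, ha, pow_one]),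
      Subgroup.mem_zpowers a, ?_, ?_⟩
    · rw [MonoidHom.map_zpowers]
      exact congrArg Subgroup.zpowers ((hΦ a).trans hσa)
    · refine Subgroup.centralizer_le_normalizer (Subgroup.zpowers a : Set ↥(chevF4.group K)) ?_
      rw [Subgroup.mem_centralizer_iff]
      rintro x ⟨i, rfl⟩
      exact (hab.zpow_left i).eq
  obtain ⟨U, hU, hmax⟩ := Set.exists_max_image T (fun U => Nat.card ↥U) (Set.toFinite _) hTne
  obtain ⟨hUp, haU, hUσ, hbU⟩ := hU
  set N := Subgroup.normalizer (U : Set ↥(chevF4.group K)) with hN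
  let V : Subgroup ↥(chevF4.group K) := (Cfsg.pCore 2 ↥N).map N.subtype
  have hVp : IsPGroup 2 ↥V := (PSolvable.pCore_isPGroup (p := 2) (G := ↥N)).map _
  have hVmax : ∀ M : Subgroup ↥(chevF4.group K), IsPGroup 2 ↥M → M ≤ N → (∀ y ∈ N, ∀ x ∈ M, y * x * y⁻¹ ∈ M) → M ≤ V := by
    intro M hM hMN hnorm x hx
    refine ⟨⟨x, hMN hx⟩, (le_sSup (show M.subgroupOf N ∈ {L : Subgroup ↥N | L.Normal ∧ IsPGroup 2 L} from
      ⟨⟨fun z hz y => hnorm y y.2 z hz⟩, hM.of_equiv (Subgroup.subgroupOfEquivOfLe hMN).symm⟩)) ?_, rfl⟩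
    exact hx
  have hVN : V ≤ N := Subgroup.map_subtype_le _
  have hVnorm : ∀ y ∈ N, ∀ x ∈ V, y * x * y⁻¹ ∈ V := by
    rintro y hy _ ⟨x, hx, rfl⟩
    exact ⟨_, Subgroup.Normal.conj_mem inferInstance x hx ⟨y, hy⟩, rfl⟩
  have hUV : U ≤ V := hVmax U hUp Subgroup.le_normalizer
    fun y hy x hx => (Subgroup.mem_normalizer_iff.1 hy x).1 hx
  have hNσ : N.map Φ.toMonoidHom = N := by
    rw [hN, Subgroup.map_equiv_normalizer_eq, hUσ]
  have hVσ : V.map Φ.toMonoidHom = V := by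
    refine Subgroup.eq_of_le_of_card_ge (hVmax _ (hVp.map _) ?_ ?_) ?_
    · exact (Subgroup.map_mono hVN).trans hNσ.le
    · rintro y hy _ ⟨x, hx, rfl⟩
      obtain ⟨y', hy', rfl⟩ := hNσ.symm.le hy
      exact ⟨y' * x * y'⁻¹, hVnorm y' hy' x hx, by simp⟩
    · exact (Subgroup.card_map_of_injective Φ.injective).ge
  have eV : U = V := by
    refine Subgroup.eq_of_le_of_card_ge hUV (hmax V ⟨hVp, hUV haU, hVσ, ?_⟩)
    rw [Subgroup.mem_normalizer_iff]
    intro x
    exact ⟨hVnorm b hbU x, fun hx => by simpa [mul_assoc] using hVnorm b⁻¹ (inv_mem hbU) _ hx⟩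
  have hne : U ≠ ⊥ := fun e => by
    rw [e, Subgroup.mem_bot] at haU
    rw [haU, orderOf_one] at ha
    exact absurd ha (by norm_num)
  obtain ⟨g, J, hJ, hJne, hNP, hUQ⟩ := exists_parabolic U hUp hne
  set Q := (radG K J).map (MulAut.conj g).toMonoidHom with hQ
  have hUQ' : U ≤ Q := fun u hu => ⟨_, hUQ u hu, by simp [mul_assoc]⟩
  have hQp : IsPGroup 2 ↥Q := (isPGroup_radG J).map _
  have hQN : Q ⊓ N ≤ V := by
    refine hVmax _ (hQp.to_le inf_le_left) inf_le_right fun y hy x hx => ⟨?_, N.mul_mem (N.mul_mem hy hx.2) (N.inv_mem hy)⟩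
    obtain ⟨x', hx', rfl⟩ := hx.1
    have h1 := hNP y hy
    rw [← normalizer_radG hJ] at h1
    exact ⟨_, (Subgroup.mem_normalizer_iff.1 h1 x').1 hx', by simp [mul_assoc]⟩
  have eQ : U = Q := by
    by_contra hne'
    have hlt : U < Q := lt_of_le_of_ne hUQ' hne'
    haveI : Group.IsNilpotent ↥Q := hQp.isNilpotent
    have h1 : U.subgroupOf Q < ⊤ := lt_top_iff_ne_top.2 fun e => hlt.not_ge (Subgroup.subgroupOf_eq_top.1 e)
    obtain ⟨x, hx, hxU⟩ := SetLike.exists_of_lt (Group.normalizerCondition_of_isNilpotent _ h1)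
    refine hxU (Subgroup.mem_subgroupOf.2 (eV.symm.le (hQN ⟨x.2, ?_⟩)))
    rw [Subgroup.mem_normalizer_iff] at hx
    refine Subgroup.mem_normalizer_iff.2 fun u => ⟨fun hu => ?_, fun hu => ?_⟩
    · exact (hx ⟨u, hUQ' hu⟩).1 hu
    · have hu' : u ∈ Q := by simpa [mul_assoc] using mul_mem (mul_mem (inv_mem x.2) (hUQ' hu)) x.2
      exact (hx ⟨u, hu'⟩).2 hu
  set J' := J.image (3 - ·) with hJ'
  have hJ'r : J' ⊆ Finset.range chevF4.rank := by
    intro i hi
    obtain ⟨j, -, rfl⟩ := Finset.mem_image.1 hi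
    exact Finset.mem_range.2 (show 3 - j < 4 by omega)
  have hle1 : (radG K J).map σ ≤ radG K J' := by
    rintro _ ⟨x, hx, rfl⟩; exact map_radG hσ hJ hx
  have hle2 : (radG K J').map σ ≤ radG K J := by
    rintro _ ⟨x, hx, rfl⟩
    have := map_radG hσ hJ'r hx
    rwa [hJ', image_node J (Finset.mem_powerset.2 hJ)] at this
  have hrad : (radG K J).map σ = radG K J' := by
    refine Subgroup.eq_of_le_of_card_ge hle1 ?_
    have := Subgroup.card_le_of_le hle2
    rw [Subgroup.card_map_of_injective hbij.1] at this ⊢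
    exact this
  set k := g⁻¹ * σ g with hk
  have hmem : ∀ z : ↥(chevF4.group K), z ∈ radG K J' ↔ k * z * k⁻¹ ∈ radG K J := by
    intro z
    have h1 : z ∈ radG K J' ↔ σ g * z * (σ g)⁻¹ ∈ U := by
      rw [← hUσ, eQ, ← hrad]
      constructor
      · rintro ⟨x, hx, rfl⟩
        exact ⟨g * x * g⁻¹, ⟨x, hx, by simp⟩, by simp [hΦ]⟩
      · rintro ⟨_, ⟨x, hx, rfl⟩, e⟩
        exact ⟨x, hx, by simpa [hΦ] using e⟩
    rw [h1, eQ]
    constructor
    · rintro ⟨x, hx, e⟩
      have e' : g * x * g⁻¹ = σ g * z * (σ g)⁻¹ := by simpa using e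
      have : k * z * k⁻¹ = x := by
        rw [hk, show g⁻¹ * σ g * z * (g⁻¹ * σ g)⁻¹ = g⁻¹ * (σ g * z * (σ g)⁻¹) * g by group, ← e']
        group
      rwa [this]
    · intro hz
      exact ⟨_, hz, by simp [hk, mul_assoc]⟩
  have hJJ : J = J' := by
    refine parG_eq_of_conj (K := K) (k := k) hJ hJ'r fun x => ?_
    rw [← normalizer_radG hJ, ← normalizer_radG hJ'r, Subgroup.mem_normalizer_iff, Subgroup.mem_normalizer_iff]
    constructor
    · intro hx z
      have h1 := hx (k⁻¹ * z * k)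
      rw [hmem, hmem] at h1
      convert h1 using 1 <;> group
    · intro hx z
      rw [hmem, hmem]
      have h1 := hx (k * z * k⁻¹)
      convert h1 using 1
      group
  refine ⟨J, stable_types J (Finset.mem_powerset.2 hJ) hJJ.symm hJne, ?_⟩
  have hb : g⁻¹ * b * g ∈ parG K J := hNP b hbU
  have hord : orderOf (g⁻¹ * b * g) = orderOf b := by simpa using (MulAut.conj g⁻¹).orderOf_eq b
  rw [← hord, ← Subgroup.orderOf_mk _ hb]
  exact orderOf_dvd_natCard _

/-- The Poincaré certificate of the parabolic subgroup of type `{0, 3}`. -/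
def orbitP : OrbitCert where
  node := 0
  orbit := [[1, 0, 0, 0], [-1, 1, 0, 0]]
  parent := [(0, 0)]
  target := [[1, 0], [0, 1]]

/-- The last step of the type `{0, 3}`. -/
def orbitP' : OrbitCert where
  node := 3
  orbit := [[0, 0, 0, 1], [0, 0, 1, -1]]
  parent := [(0, 3)]
  target := [[1], [0]]

theorem chain_P : chkChain chevF4 F4.cert [0, 3] [orbitP, orbitP'] = true := by decide +kernel

theorem chain_Q : chkChain chevF4 F4.cert [1, 2] [F4.orbit2, F4.orbit3] = true := by decide +kernel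

theorem depths : orbitP.orbit.map (depth chevF4 F4.cert) = [0, 1] ∧ orbitP'.orbit.map (depth chevF4 F4.cert) = [0, 1] ∧
    F4.orbit2.orbit.map (depth chevF4 F4.cert) = [0, 1, 2, 3] ∧ F4.orbit3.orbit.map (depth chevF4 F4.cert) = [0, 1] := by
  decide +kernel

theorem orbitSum_eq {o : OrbitCert} {L : List ℕ} (h : o.orbit.map (depth chevF4 F4.cert) = L) (q : ℕ) :
    orbitSum chevF4 F4.cert o q = (L.map (q ^ ·)).sum := by
  subst h
  simp [orbitSum, List.map_map, Function.comp_def]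

theorem card_parG [Fintype K] {J : Finset ℕ} (hJ : J ⊆ Finset.range chevF4.rank) :
    Nat.card ↥(parG K J) = Fintype.card K ^ 24 * (Fintype.card K - 1) ^ 4 * poinc checked_F4 J (Fintype.card K) := by
  classical
  have hd := ReeF.rooted_F4.card_diagonal (F := K) F4.smith_ok
  have hone : (∏ i : Fin chevF4.rank, (Fintype.card K - 1).gcd (([1, 1, 1, 1] : List ℕ).getD i.val 0)) = 1 := by
    show (∏ i : Fin 4, _) = _
    simp [Fin.prod_univ_succ, Nat.gcd_comm]
  rw [hone, one_mul] at hd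
  rw [Nat.card_congr (Subgroup.subgroupOfEquivOfLe (ReeF.rooted_F4.parabolic_le_group J)).toEquiv,
    ← (paraP chevF4 K J ∅).card_mul_index, ReeF.rooted_F4.index_paraP hJ (Finset.empty_subset _),
    Nat.card_congr (Subgroup.subgroupOfEquivOfLe (parabolic_mono (Finset.empty_subset J))).toEquiv]
  have e : chevF4.parabolicSubgroup K ((∅ : Finset ℕ) : Set ℕ) = chevF4.borelSubgroup K := by
    simp [ChevalleyDatum.parabolicSubgroup]
  rw [e, ReeF.rooted_F4.card_borel, hd, show chevF4.nroots / 2 = 24 from rfl, show chevF4.rank = 4 from rfl]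
  congr 1
  rw [poinc]
  refine Finset.sum_congr (Finset.ext fun w => ?_) fun _ _ => rfl
  simp [mem_weylFinset]

theorem dvd_of_dvd_parG [Fintype K] {J : Finset ℕ} (hJ : J = ∅ ∨ J = {0, 3} ∨ J = {1, 2}) {r : ℕ} (hr : r.Prime)
    (hd : r ∣ Nat.card ↥(parG K J)) : r ∣ Fintype.card K * (Fintype.card K ^ 4 - 1) := by
  have hsub : J ⊆ Finset.range chevF4.rank := by
    rcases hJ with rfl | rfl | rfl <;> decide
  rw [card_parG hsub] at hd
  set q := Fintype.card K
  have hq : 1 ≤ q := Fintype.card_pos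
  obtain ⟨c, hc⟩ : ∃ c, q = c + 1 := ⟨q - 1, by omega⟩
  have e4 : q ^ 4 - 1 = (q - 1) * ((1 + q) * (1 + q ^ 2)) := by
    rw [hc]
    simp only [Nat.add_sub_cancel]
    refine Nat.sub_eq_of_eq_add ?_
    ring
  rw [e4]
  have f1 : q - 1 ∣ q * ((q - 1) * ((1 + q) * (1 + q ^ 2))) := dvd_mul_of_dvd_right (dvd_mul_right _ _) _
  have f2 : (1 + q) ∣ q * ((q - 1) * ((1 + q) * (1 + q ^ 2))) :=
    dvd_mul_of_dvd_right (dvd_mul_of_dvd_right (dvd_mul_right _ _) _) _
  have f3 : (1 + q ^ 2) ∣ q * ((q - 1) * ((1 + q) * (1 + q ^ 2))) :=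
    dvd_mul_of_dvd_right (dvd_mul_of_dvd_right (dvd_mul_left _ _) _) _
  rcases hr.dvd_mul.1 hd with h | h
  · rcases hr.dvd_mul.1 h with h | h
    · exact dvd_mul_of_dvd_left (hr.dvd_of_dvd_pow h) _
    · exact (hr.dvd_of_dvd_pow h).trans f1
  obtain ⟨d1, d2, d3, d4⟩ := depths
  rcases hJ with rfl | rfl | rfl
  · have := ReeF.rooted_F4.poinc_chain q [] [] rfl
    simp only [List.toFinset_nil, List.map_nil, List.prod_nil] at this
    rw [this] at h
    exact absurd h hr.not_dvd_one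
  · have := ReeF.rooted_F4.poinc_chain q _ _ chain_P
    simp only [List.map_cons, List.map_nil, List.prod_cons, List.prod_nil, mul_one, orbitSum_eq d1, orbitSum_eq d2] at this
    rw [show ([0, 3] : List ℕ).toFinset = {0, 3} from rfl] at this
    rw [this] at h
    simp only [List.sum_cons, List.sum_nil, pow_zero, pow_one, add_zero] at h
    rcases hr.dvd_mul.1 h with h | h <;> exact h.trans f2
  · have := ReeF.rooted_F4.poinc_chain q _ _ chain_Q
    simp only [List.map_cons, List.map_nil, List.prod_cons, List.prod_nil, mul_one, orbitSum_eq d3, orbitSum_eq d4] at this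
    rw [show ([1, 2] : List ℕ).toFinset = {1, 2} from rfl] at this
    rw [this] at h
    simp only [List.sum_cons, List.sum_nil, pow_zero, pow_one, add_zero] at h
    rcases hr.dvd_mul.1 h with h | h
    · rw [show 1 + (q + (q ^ 2 + q ^ 3)) = (1 + q) * (1 + q ^ 2) by ring] at h
      rcases hr.dvd_mul.1 h with h | h
      exacts [h.trans f2, h.trans f3]
    · exact h.trans f2

end Cfsg.Agent.Lib.ReeF4
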